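import Mathlib
import Cfsg.Agent.Lib.Helper27.Zass.T1Defs

set_option autoImplicit false

namespace Cfsg.Agent.Lib.Helper27.Zass

universe u

section span

variable {k : Type*} {R : Type u} [Field k] [Ring R] [Algebra k R]

/-- `v` is a combination of the `r i` with coefficients in `Z` -/
def InM (Z : Subalgebra k R) (r : Fin 8 → R) (v : R) : Prop :=
  ∃ c : Fin 8 → R, (∀ i, c i ∈ Z) ∧ v = ∑ i, c i * r i

theorem inM_add (Z : Subalgebra k R) (r : Fin 8 → R) {v v' : R} (h : InM Z r v)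
    (h' : InM Z r v') : InM Z r (v + v') := by
  obtain ⟨c, hc, rfl⟩ := h
  obtain ⟨c', hc', rfl⟩ := h'
  refine ⟨c + c', fun i => Z.add_mem (hc i) (hc' i), ?_⟩
  simp [add_mul, Finset.sum_add_distrib]

theorem inM_neg (Z : Subalgebra k R) (r : Fin 8 → R) {v : R} (h : InM Z r v) :
    InM Z r (-v) := by
  obtain ⟨c, hc, rfl⟩ := h
  refine ⟨-c, fun i => Z.neg_mem (hc i), ?_⟩
  simp [neg_mul, Finset.sum_neg_distrib]

theorem inM_sub (Z : Subalgebra k R) (r : Fin 8 → R) {v v' : R} (h : InM Z r v)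
    (h' : InM Z r v') : InM Z r (v - v') := by
  rw [sub_eq_add_neg]
  exact inM_add Z r h (inM_neg Z r h')

theorem inM_smul (Z : Subalgebra k R) (r : Fin 8 → R) (a : k) {v : R} (h : InM Z r v) :
    InM Z r (a • v) := by
  obtain ⟨c, hc, rfl⟩ := h
  refine ⟨a • c, fun i => Z.smul_mem (hc i) a, ?_⟩
  simp [Finset.smul_sum]

theorem inM_nsmul (Z : Subalgebra k R) (r : Fin 8 → R) (n : ℕ) {v : R} (h : InM Z r v) :
    InM Z r (n • v) := by
  obtain ⟨c, hc, rfl⟩ := h
  refine ⟨n • c, fun i => nsmul_mem (hc i) n, ?_⟩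
  simp [Finset.smul_sum, mul_assoc]

theorem inM_zmul (Z : Subalgebra k R) (r : Fin 8 → R) {z v : R} (hz : z ∈ Z) (h : InM Z r v) :
    InM Z r (z * v) := by
  obtain ⟨c, hc, rfl⟩ := h
  refine ⟨fun i => z * c i, fun i => Z.mul_mem hz (hc i), ?_⟩
  simp [Finset.mul_sum, mul_assoc]

theorem inM_basis (Z : Subalgebra k R) (r : Fin 8 → R) (j : Fin 8) : InM Z r (r j) := by
  refine ⟨Pi.single j 1, fun i => ?_, ?_⟩
  · by_cases hij : i = j
    · subst hij
      simp [Z.one_mem]
    · simp [Pi.single_eq_of_ne hij, Z.zero_mem]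
  · rw [Finset.sum_eq_single j]
    · simp
    · intro i _ hij
      simp [Pi.single_eq_of_ne hij]
    · intro h
      exact absurd (Finset.mem_univ _) h

/-- cancelling a natural number which is invertible in `k` -/
theorem eq_zero_of_nsmul (n : ℕ) (hn : (n : k) ≠ 0) {x : R} (h : n • x = 0) : x = 0 := by
  have h1 : (n : k) • x = 0 := by
    rw [Nat.cast_smul_eq_nsmul, h]
  have h2 := congrArg (fun y => (n : k)⁻¹ • y) h1
  simp only [smul_zero] at h2
  rwa [inv_smul_smul₀ hn] at h2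

theorem inM_of_nsmul (Z : Subalgebra k R) (r : Fin 8 → R) (n : ℕ) (hn : (n : k) ≠ 0)
    {v : R} (h : InM Z r (n • v)) : InM Z r v := by
  have h1 : v = (n : k)⁻¹ • (n • v) := by
    rw [← Nat.cast_smul_eq_nsmul k, inv_smul_smul₀ hn]
  rw [h1]
  exact inM_smul Z r _ h

/-- stability under `A` from stability under `s` and `u` -/
theorem inM_A (Z : Subalgebra k R) (r : Fin 8 → R) (h6 : ((6 : ℕ) : k) ≠ 0) (W A s u : R)
    (hs : s = -(2 • W + 1))
    (hu : u = -(6 • A) - 3 • (1 : R) - (2 • W + 1) ∨ u = -(6 • A) - 3 • (1 : R) + (2 • W + 1))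
    (x : R) (hx : InM Z r x) (hsx : InM Z r (s * x)) (hux : InM Z r (u * x)) :
    InM Z r (A * x) := by
  apply inM_of_nsmul Z r 6 h6
  rcases hu with hu | hu
  · have e : 6 • (A * x) = -(u * x) - 3 • x + s * x := by
      rw [hu, hs]
      noncomm_ring
    rw [e]
    exact inM_add Z r (inM_sub Z r (inM_neg Z r hux) (inM_nsmul Z r 3 hx)) hsx
  · have e : 6 • (A * x) = -(u * x) - 3 • x - s * x := by
      rw [hu, hs]
      noncomm_ring
    rw [e]
    exact inM_sub Z r (inM_sub Z r (inM_neg Z r hux) (inM_nsmul Z r 3 hx)) hsx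

/-- commutation with `A` from commutation with `s` and `u` -/
theorem comm_A (h6 : ((6 : ℕ) : k) ≠ 0) (W A s u z : R)
    (hs : s = -(2 • W + 1))
    (hu : u = -(6 • A) - 3 • (1 : R) - (2 • W + 1) ∨ u = -(6 • A) - 3 • (1 : R) + (2 • W + 1))
    (hzs : z * s = s * z) (hzu : z * u = u * z) : z * A = A * z := by
  apply sub_eq_zero.mp
  apply eq_zero_of_nsmul (k := k) 6 h6
  rcases hu with hu | hu
  · have e : 6 • (z * A - A * z) = -(z * u - u * z) + (z * s - s * z) := by
      rw [hu, hs]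
      noncomm_ring
    rw [e, hzs, hzu, sub_self, sub_self, neg_zero, add_zero]
  · have e : 6 • (z * A - A * z) = -(z * u - u * z) - (z * s - s * z) := by
      rw [hu, hs]
      noncomm_ring
    rw [e, hzs, hzu, sub_self, sub_self, neg_zero, sub_zero]

end span

section ring

variable {R : Type u} [Ring R]

/-- the element `u` attached to a second root `A` -/
theorem exists_u (W A : R) (hW : W * W + W + 1 = 0) (hA : A * A + A + 1 = 0)
    (hz : W * A + A * W + A + W = 0 ∨ W * A + A * W + A + W = -1) :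
    ∃ u : R, (u = -(6 • A) - 3 • (1 : R) - (2 • W + 1) ∨
        u = -(6 • A) - 3 • (1 : R) + (2 • W + 1)) ∧
      u * u = -(24 • (1 : R)) ∧ (2 • W + 1) * u = -(u * (2 • W + 1)) := by
  rcases hz with hz | hz
  · refine ⟨-(6 • A) - 3 • (1 : R) - (2 • W + 1), Or.inl rfl, ?_, ?_⟩
    · have e : (-(6 • A) - 3 • (1 : R) - (2 • W + 1)) * (-(6 • A) - 3 • (1 : R) - (2 • W + 1))
          = 36 • (A * A + A + 1) + 4 • (W * W + W + 1) + 12 • (W * A + A * W + A + W)
            - 24 • (1 : R) := by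
        noncomm_ring
      rw [e, hA, hW, hz]
      noncomm_ring
    · have e : (2 • W + 1) * (-(6 • A) - 3 • (1 : R) - (2 • W + 1))
          + (-(6 • A) - 3 • (1 : R) - (2 • W + 1)) * (2 • W + 1)
          = -(12 • (W * A + A * W + A + W)) - 8 • (W * W + W + 1) := by
        noncomm_ring
      rw [hz, hW] at e
      rw [eq_neg_iff_add_eq_zero, e]
      noncomm_ring
  · refine ⟨-(6 • A) - 3 • (1 : R) + (2 • W + 1), Or.inr rfl, ?_, ?_⟩
    · have e : (-(6 • A) - 3 • (1 : R) + (2 • W + 1)) * (-(6 • A) - 3 • (1 : R) + (2 • W + 1))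
          = 36 • (A * A + A + 1) + 4 • (W * W + W + 1) - 12 • (W * A + A * W + A + W)
            - 36 • (1 : R) := by
        noncomm_ring
      rw [e, hA, hW, hz]
      noncomm_ring
    · have e : (2 • W + 1) * (-(6 • A) - 3 • (1 : R) + (2 • W + 1))
          + (-(6 • A) - 3 • (1 : R) + (2 • W + 1)) * (2 • W + 1)
          = -(12 • (W * A + A * W + A + W)) + 8 • (W * W + W + 1) - 12 • (1 : R) := by
        noncomm_ring
      rw [hz, hW] at e
      rw [eq_neg_iff_add_eq_zero, e]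
      noncomm_ring

/-- **[T1-R]** -/
theorem pkgT1R : PkgT1R.{u} := by
  intro p _ R _ _ h2 h3 W A B hW hA hB hza hzb
  have h2' : ((2 : ℕ) : ZMod p) ≠ 0 := by exact_mod_cast h2
  have h6' : ((6 : ℕ) : ZMod p) ≠ 0 := by
    have e : ((6 : ℕ) : ZMod p) = 2 * 3 := by norm_num
    rw [e]
    exact mul_ne_zero h2 h3
  obtain ⟨u1, hu1, h11, ht1⟩ := exists_u W A hW hA hza
  obtain ⟨u2, hu2, h22, ht2⟩ := exists_u W B hW hB hzb
  obtain ⟨s, hsdef⟩ : ∃ s : R, s = -(2 • W + 1) := ⟨_, rfl⟩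
  have hss : s * s = -(3 • (1 : R)) := by
    have e : (-(2 • W + 1)) * (-(2 • W + 1)) = 4 • (W * W + W + 1) - 3 • (1 : R) := by
      noncomm_ring
    rw [hsdef, e, hW]
    noncomm_ring
  have hsu1 : s * u1 = -(u1 * s) := by
    rw [hsdef, neg_mul, ht1, neg_neg, mul_neg, neg_neg]
  have hsu2 : s * u2 = -(u2 * s) := by
    rw [hsdef, neg_mul, ht2, neg_neg, mul_neg, neg_neg]
  have hu1s : u1 * s = -(s * u1) := by rw [hsu1, neg_neg]
  have hu2s : u2 * s = -(s * u2) := by rw [hsu2, neg_neg]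
  obtain ⟨c, hcdef⟩ : ∃ c : R, c = u1 * u2 + u2 * u1 := ⟨_, rfl⟩
  have hu2u1 : u2 * u1 = c - u1 * u2 := by
    rw [hcdef]
    abel
  have hcs : c * s = s * c := by
    have e1 : u1 * u2 * s = s * (u1 * u2) := by
      rw [mul_assoc u1 u2 s, hu2s, mul_neg, ← mul_assoc u1 s u2, hu1s, neg_mul, neg_neg,
        mul_assoc s u1 u2]
    have e2 : u2 * u1 * s = s * (u2 * u1) := by
      rw [mul_assoc u2 u1 s, hu1s, mul_neg, ← mul_assoc u2 s u1, hu2s, neg_mul, neg_neg,
        mul_assoc s u2 u1]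
    rw [hcdef, add_mul, mul_add, e1, e2]
  have hcu1 : c * u1 = u1 * c := by
    rw [hcdef, add_mul, mul_add, mul_assoc u2 u1 u1, h11, ← mul_assoc u1 u1 u2, h11]
    noncomm_ring
  have hcu2 : c * u2 = u2 * c := by
    rw [hcdef, add_mul, mul_add, mul_assoc u1 u2 u2, h22, ← mul_assoc u2 u2 u1, h22]
    noncomm_ring
  obtain ⟨Z, hZ⟩ : ∃ Z : Subalgebra (ZMod p) R, Z = Algebra.adjoin (ZMod p) {c} := ⟨_, rfl⟩
  have hcZ : c ∈ Z := by
    rw [hZ]
    exact Algebra.subset_adjoin (Set.mem_singleton c)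
  have hcc := Algebra.adjoin_le_centralizer_centralizer (ZMod p) ({c} : Set R)
  have hZcomm : ∀ x ∈ Z, ∀ y ∈ Z, x * y = y * x := by
    intro x hx y hy
    rw [hZ] at hx hy
    exact Set.centralizer_centralizer_comm_of_comm (by simp) x (hcc hx) y (hcc hy)
  have hZcen : Z ≤ Subalgebra.centralizer (ZMod p) ({s, u1, u2} : Set R) := by
    rw [hZ]
    apply Algebra.adjoin_le
    intro x hx
    rw [Set.mem_singleton_iff] at hx
    rw [hx, SetLike.mem_coe, Subalgebra.mem_centralizer_iff]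
    intro g hg
    rcases hg with hg | hg | hg
    · rw [hg]
      exact hcs.symm
    · rw [hg]
      exact hcu1.symm
    · rw [Set.mem_singleton_iff] at hg
      rw [hg]
      exact hcu2.symm
  have hZs : ∀ z ∈ Z, z * s = s * z ∧ z * u1 = u1 * z ∧ z * u2 = u2 * z := by
    intro z hz
    have h1 := (Subalgebra.mem_centralizer_iff (ZMod p)).mp (hZcen hz)
    exact ⟨(h1 s (by simp)).symm, (h1 u1 (by simp)).symm, (h1 u2 (by simp)).symm⟩
  have hZW : ∀ z ∈ Z, z * W = W * z := by
    intro z hz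
    obtain ⟨hzs, -, -⟩ := hZs z hz
    apply sub_eq_zero.mp
    apply eq_zero_of_nsmul (k := ZMod p) 2 h2'
    have e : 2 • (z * W - W * z) = -(z * s - s * z) := by
      rw [hsdef]
      noncomm_ring
    rw [e, hzs, sub_self, neg_zero]
  obtain ⟨r, hr⟩ : ∃ r : Fin 8 → R,
      r = ![1, s, u1, u2, s * u1, s * u2, u1 * u2, s * (u1 * u2)] := ⟨_, rfl⟩
  have r0 : r 0 = 1 := by rw [hr]; rfl
  have r1 : r 1 = s := by rw [hr]; rfl
  have r2 : r 2 = u1 := by rw [hr]; rfl
  have r3 : r 3 = u2 := by rw [hr]; rfl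
  have r4 : r 4 = s * u1 := by rw [hr]; rfl
  have r5 : r 5 = s * u2 := by rw [hr]; rfl
  have r6 : r 6 = u1 * u2 := by rw [hr]; rfl
  have r7 : r 7 = s * (u1 * u2) := by rw [hr]; rfl
  have e0 : InM Z r 1 := r0 ▸ inM_basis Z r 0
  have e1 : InM Z r s := r1 ▸ inM_basis Z r 1
  have e2 : InM Z r u1 := r2 ▸ inM_basis Z r 2
  have e3 : InM Z r u2 := r3 ▸ inM_basis Z r 3
  have e4 : InM Z r (s * u1) := r4 ▸ inM_basis Z r 4
  have e5 : InM Z r (s * u2) := r5 ▸ inM_basis Z r 5
  have e6 : InM Z r (u1 * u2) := r6 ▸ inM_basis Z r 6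
  have e7 : InM Z r (s * (u1 * u2)) := r7 ▸ inM_basis Z r 7
  have hs_st : ∀ j, InM Z r (s * r j) := by
    intro j
    fin_cases j
    · show InM Z r (s * r 0)
      rw [r0, mul_one]
      exact e1
    · show InM Z r (s * r 1)
      rw [r1, hss]
      exact inM_neg Z r (inM_nsmul Z r 3 e0)
    · show InM Z r (s * r 2)
      rw [r2]
      exact e4
    · show InM Z r (s * r 3)
      rw [r3]
      exact e5
    · show InM Z r (s * r 4)
      have e : s * (s * u1) = -(3 • u1) := by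
        rw [← mul_assoc s s u1, hss]
        noncomm_ring
      rw [r4, e]
      exact inM_neg Z r (inM_nsmul Z r 3 e2)
    · show InM Z r (s * r 5)
      have e : s * (s * u2) = -(3 • u2) := by
        rw [← mul_assoc s s u2, hss]
        noncomm_ring
      rw [r5, e]
      exact inM_neg Z r (inM_nsmul Z r 3 e3)
    · show InM Z r (s * r 6)
      rw [r6]
      exact e7
    · show InM Z r (s * r 7)
      have e : s * (s * (u1 * u2)) = -(3 • (u1 * u2)) := by
        rw [← mul_assoc s s (u1 * u2), hss]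
        noncomm_ring
      rw [r7, e]
      exact inM_neg Z r (inM_nsmul Z r 3 e6)
  have hu1_st : ∀ j, InM Z r (u1 * r j) := by
    intro j
    fin_cases j
    · show InM Z r (u1 * r 0)
      rw [r0, mul_one]
      exact e2
    · show InM Z r (u1 * r 1)
      rw [r1, hu1s]
      exact inM_neg Z r e4
    · show InM Z r (u1 * r 2)
      rw [r2, h11]
      exact inM_neg Z r (inM_nsmul Z r 24 e0)
    · show InM Z r (u1 * r 3)
      rw [r3]
      exact e6
    · show InM Z r (u1 * r 4)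
      have e : u1 * (s * u1) = 24 • s := by
        rw [← mul_assoc u1 s u1, hu1s, neg_mul, mul_assoc s u1 u1, h11]
        noncomm_ring
      rw [r4, e]
      exact inM_nsmul Z r 24 e1
    · show InM Z r (u1 * r 5)
      have e : u1 * (s * u2) = -(s * (u1 * u2)) := by
        rw [← mul_assoc u1 s u2, hu1s, neg_mul, mul_assoc s u1 u2]
      rw [r5, e]
      exact inM_neg Z r e7
    · show InM Z r (u1 * r 6)
      have e : u1 * (u1 * u2) = -(24 • u2) := by
        rw [← mul_assoc u1 u1 u2, h11]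
        noncomm_ring
      rw [r6, e]
      exact inM_neg Z r (inM_nsmul Z r 24 e3)
    · show InM Z r (u1 * r 7)
      have e : u1 * (s * (u1 * u2)) = 24 • (s * u2) := by
        rw [← mul_assoc u1 s (u1 * u2), hu1s, neg_mul, mul_assoc s u1 (u1 * u2),
          ← mul_assoc u1 u1 u2, h11]
        noncomm_ring
      rw [r7, e]
      exact inM_nsmul Z r 24 e5
  have hu2_st : ∀ j, InM Z r (u2 * r j) := by
    intro j
    fin_cases j
    · show InM Z r (u2 * r 0)
      rw [r0, mul_one]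
      exact e3
    · show InM Z r (u2 * r 1)
      rw [r1, hu2s]
      exact inM_neg Z r e5
    · show InM Z r (u2 * r 2)
      rw [r2, hu2u1]
      have ec : InM Z r c := by
        have h := inM_zmul Z r hcZ e0
        rwa [mul_one] at h
      exact inM_sub Z r ec e6
    · show InM Z r (u2 * r 3)
      rw [r3, h22]
      exact inM_neg Z r (inM_nsmul Z r 24 e0)
    · show InM Z r (u2 * r 4)
      have e : u2 * (s * u1) = -(c * s) + s * (u1 * u2) := by
        rw [← mul_assoc u2 s u1, hu2s, neg_mul, mul_assoc s u2 u1, hu2u1, mul_sub, ← hcs]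
        abel
      rw [r4, e]
      exact inM_add Z r (inM_neg Z r (inM_zmul Z r hcZ e1)) e7
    · show InM Z r (u2 * r 5)
      have e : u2 * (s * u2) = 24 • s := by
        rw [← mul_assoc u2 s u2, hu2s, neg_mul, mul_assoc s u2 u2, h22]
        noncomm_ring
      rw [r5, e]
      exact inM_nsmul Z r 24 e1
    · show InM Z r (u2 * r 6)
      have e : u2 * (u1 * u2) = c * u2 + 24 • u1 := by
        rw [← mul_assoc u2 u1 u2, hu2u1, sub_mul, mul_assoc u1 u2 u2, h22]
        noncomm_ring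
      rw [r6, e]
      exact inM_add Z r (inM_zmul Z r hcZ e3) (inM_nsmul Z r 24 e2)
    · show InM Z r (u2 * r 7)
      have e : u2 * (s * (u1 * u2)) = -(c * (s * u2)) - 24 • (s * u1) := by
        rw [← mul_assoc u2 s (u1 * u2), hu2s, neg_mul, mul_assoc s u2 (u1 * u2),
          ← mul_assoc u2 u1 u2, hu2u1, sub_mul, mul_assoc u1 u2 u2, h22, mul_sub,
          ← mul_assoc s c u2, ← hcs, mul_assoc c s u2]
        noncomm_ring
      rw [r7, e]
      exact inM_sub Z r (inM_neg Z r (inM_zmul Z r hcZ e5)) (inM_nsmul Z r 24 e4)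
  have hW_st : ∀ j, InM Z r (W * r j) := by
    intro j
    apply inM_of_nsmul Z r 2 h2'
    have e : 2 • (W * r j) = -(r j + s * r j) := by
      rw [hsdef]
      noncomm_ring
    rw [e]
    exact inM_neg Z r (inM_add Z r (inM_basis Z r j) (hs_st j))
  have hA_st : ∀ j, InM Z r (A * r j) := fun j =>
    inM_A Z r h6' W A s u1 hsdef hu1 (r j) (inM_basis Z r j) (hs_st j) (hu1_st j)
  have hB_st : ∀ j, InM Z r (B * r j) := fun j =>
    inM_A Z r h6' W B s u2 hsdef hu2 (r j) (inM_basis Z r j) (hs_st j) (hu2_st j)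
  have hWm : W ∈ Algebra.adjoin (ZMod p) ({W, A, B} : Set R) :=
    Algebra.subset_adjoin (by simp)
  have hAm : A ∈ Algebra.adjoin (ZMod p) ({W, A, B} : Set R) :=
    Algebra.subset_adjoin (by simp)
  have hBm : B ∈ Algebra.adjoin (ZMod p) ({W, A, B} : Set R) :=
    Algebra.subset_adjoin (by simp)
  have htm : (2 • W + 1) ∈ Algebra.adjoin (ZMod p) ({W, A, B} : Set R) :=
    Subalgebra.add_mem _ (nsmul_mem hWm 2) (Subalgebra.one_mem _)
  have hsm : s ∈ Algebra.adjoin (ZMod p) ({W, A, B} : Set R) := by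
    rw [hsdef]
    exact Subalgebra.neg_mem _ htm
  have hum : ∀ A' u : R, A' ∈ Algebra.adjoin (ZMod p) ({W, A, B} : Set R) →
      (u = -(6 • A') - 3 • (1 : R) - (2 • W + 1) ∨ u = -(6 • A') - 3 • (1 : R) + (2 • W + 1)) →
      u ∈ Algebra.adjoin (ZMod p) ({W, A, B} : Set R) := by
    intro A' u hA' hu
    have h0 : -(6 • A') - 3 • (1 : R) ∈ Algebra.adjoin (ZMod p) ({W, A, B} : Set R) :=
      Subalgebra.sub_mem _ (Subalgebra.neg_mem _ (nsmul_mem hA' 6))
        (nsmul_mem (Subalgebra.one_mem _) 3)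
    rcases hu with hu | hu
    · rw [hu]
      exact Subalgebra.sub_mem _ h0 htm
    · rw [hu]
      exact Subalgebra.add_mem _ h0 htm
  have hu1m := hum A u1 hAm hu1
  have hu2m := hum B u2 hBm hu2
  refine ⟨Z, r, hZcomm, ?_, ?_, e0, ?_⟩
  · intro z hz
    obtain ⟨hzs, hzu1, hzu2⟩ := hZs z hz
    exact ⟨hZW z hz, comm_A (k := ZMod p) h6' W A s u1 z hsdef hu1 hzs hzu1,
      comm_A (k := ZMod p) h6' W B s u2 z hsdef hu2 hzs hzu2⟩
  · intro i
    fin_cases i
    · show r 0 ∈ _
      rw [r0]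
      exact Subalgebra.one_mem _
    · show r 1 ∈ _
      rw [r1]
      exact hsm
    · show r 2 ∈ _
      rw [r2]
      exact hu1m
    · show r 3 ∈ _
      rw [r3]
      exact hu2m
    · show r 4 ∈ _
      rw [r4]
      exact Subalgebra.mul_mem _ hsm hu1m
    · show r 5 ∈ _
      rw [r5]
      exact Subalgebra.mul_mem _ hsm hu2m
    · show r 6 ∈ _
      rw [r6]
      exact Subalgebra.mul_mem _ hu1m hu2m
    · show r 7 ∈ _
      rw [r7]
      exact Subalgebra.mul_mem _ hsm (Subalgebra.mul_mem _ hu1m hu2m)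
  · intro T hT j
    rcases hT with hT | hT | hT
    · rw [hT]
      exact hW_st j
    · rw [hT]
      exact hA_st j
    · rw [Set.mem_singleton_iff] at hT
      rw [hT]
      exact hB_st j

end ring

end Cfsg.Agent.Lib.Helper27.Zass
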