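import Mathlib
import Cfsg.Agent.Lib.Helper27.Zass.T1Defs
import Cfsg.Agent.Lib.Helper27.Zass.T1R
import Cfsg.Agent.Lib.Helper82.Zass.T1K
import Cfsg.Agent.Lib.Helper82.Zass.T1F

set_option autoImplicit false

namespace Cfsg.Agent.Lib.Helper27.Zass

open Cfsg.Agent.Lib.Helper51.Zass

universe u

/-- **[T1]** two distinct lines through a point generate a plane. -/
theorem pkgT1 (hE : PkgEnv.{u}) (hUI : PkgUI.{u}) : PkgT1.{u} :=
  pkgT1_of Cfsg.Agent.Lib.Helper82.Zass.pkgT1K pkgT1R Cfsg.Agent.Lib.Helper82.Zass.pkgT1F hE hUI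

end Cfsg.Agent.Lib.Helper27.Zass
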